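import Cfsg.Agent.Lib.LeechMod.Symm
import Cfsg.Agent.Lib.Compute.LightCert
import Cfsg.Prelude.Def_Spor_Conway

/-!
Lattice automorphisms given by integer matrices with denominator 8, and coded permutation models of
subgroups of the automorphism group acting on finitely many sets of vectors.
-/

set_option autoImplicit false

namespace Cfsg.Agent.SporPerm

open Cfsg Cfsg.Agent.Golay Cfsg.Agent.Leech Cfsg.Agent.LeechMod
open Matrix

/-! ### Matrices -/

/-- The entry of a matrix given by rows. -/
def entry (M : List (List ℤ)) (i j : ℕ) : ℤ := (M.getD i []).getD j 0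

/-- The transposed rows. -/
def transposeRows (M : List (List ℤ)) : List (List ℤ) :=
  (List.range 24).map fun j => (List.range 24).map fun i => entry M i j

/-- A row times a vector of lists. -/
def rowDot : List ℤ → List ℤ → ℤ
  | a :: as, b :: bs => a * b + rowDot as bs
  | _, _ => 0

/-- The matrix on the points. -/
def toMat (M : List (List ℤ)) : Matrix GolayPt GolayPt ℤ := fun i j => entry M (idx i) (idx j)

/-- Rows of length 24. -/
def shapeOK (M : List (List ℤ)) : Bool := Nat.beq M.length 24 && M.all fun r => Nat.beq r.length 24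

theorem rowDot_eq : ∀ (m : ℕ) (r x : List ℤ), r.length = m → x.length = m →
    rowDot r x = ∑ k ∈ Finset.range m, r.getD k 0 * x.getD k 0
  | 0, r, x, hr, hx => by
    rw [List.length_eq_zero_iff.1 hr]
    simp [rowDot]
  | m + 1, r, x, hr, hx => by
    obtain ⟨a, r, rfl⟩ := List.exists_cons_of_length_eq_add_one hr
    obtain ⟨b, x, rfl⟩ := List.exists_cons_of_length_eq_add_one hx
    rw [rowDot, rowDot_eq m r x (by simpa using hr) (by simpa using hx), Finset.sum_range_succ']
    simp [add_comm]

theorem sum_pts (f : ℕ → ℤ) : ∑ p : GolayPt, f (idx p) = ∑ k ∈ Finset.range 24, f k :=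
  (Equiv.sum_comp ptEquiv fun i : Fin 24 => f i).trans (Fin.sum_univ_eq_sum_range f 24)

theorem mulVec_eq {M : List (List ℤ)} (hM : shapeOK M = true) {x : List ℤ} (hx : x.length = 24)
    (i : GolayPt) : (toMat M *ᵥ toVec x) i = rowDot (M.getD (idx i) []) x := by
  simp only [shapeOK, Bool.and_eq_true, Nat.beq_eq, List.all_eq_true] at hM
  have hi : idx i < M.length := by rw [hM.1]; exact idx_lt i
  rw [rowDot_eq 24 _ _ (hM.2 _ (by rw [List.getD_eq_getElem _ _ hi]; exact List.getElem_mem hi)) hx]
  exact sum_pts fun k => (M.getD (idx i) []).getD k 0 * x.getD k 0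

/-- Orthogonality of the columns. -/
def orthOK (M : List (List ℤ)) : Bool :=
  let R := transposeRows M
  PermCert.allBelow (fun i => PermCert.allBelow (fun j =>
    rowDot (R.getD i []) (R.getD j []) == if Nat.beq i j then 64 else 0) 24) 24

theorem getD_map_range {α : Type*} (f : ℕ → α) {n k : ℕ} (h : k < n) (a : α) :
    ((List.range n).map f).getD k a = f k := by
  rw [List.getD_eq_getElem _ _ (by simpa using h)]; simp

theorem transpose_mul {M : List (List ℤ)} (h : orthOK M = true) :
    (toMat M)ᵀ * toMat M = (64 : ℤ) • (1 : Matrix GolayPt GolayPt ℤ) := by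
  ext i j
  simp only [orthOK] at h
  have hk := PermCert.allBelow_spec _ _ (PermCert.allBelow_spec _ _ h _ (idx_lt i)) _ (idx_lt j)
  rw [beq_iff_eq, transposeRows, getD_map_range _ (idx_lt i), getD_map_range _ (idx_lt j),
    rowDot_eq 24 _ _ (by simp) (by simp)] at hk
  rw [Matrix.mul_apply]
  refine Eq.trans (Eq.trans ?_ hk) ?_
  · refine Eq.trans (Finset.sum_congr rfl fun p _ => ?_)
      (sum_pts fun k => ((List.range 24).map fun a => entry M a (idx i)).getD k 0 *
        ((List.range 24).map fun a => entry M a (idx j)).getD k 0)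
    show _ * _ = _ * _
    rw [getD_map_range _ (idx_lt p), getD_map_range _ (idx_lt p)]
    rfl
  · rcases eq_or_ne i j with rfl | hij
    · simp
    · have : ¬ Nat.beq (idx i) (idx j) = true := by
        rw [Nat.beq_eq]; exact fun e => hij (idx_injective e)
      simp [this, hij]

/-- The lattice is preserved. -/
def latticeOK (M : List (List ℤ)) : Bool :=
  genList.all fun g =>
    allPts.all (fun i => rowDot (M.getD (idx i) []) ((List.range 24).map fun k => g (pt (Fin.ofNat 24 k))) % 8 == 0) &&
      inLB fun i => rowDot (M.getD (idx i) []) ((List.range 24).map fun k => g (pt (Fin.ofNat 24 k))) / 8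

/-- The checks for one matrix. -/
def matOK (M : List (List ℤ)) : Bool := shapeOK M && orthOK M && latticeOK M && latticeOK (transposeRows M)

/-- The scaled map. -/
def mapMat (A : Matrix GolayPt GolayPt ℤ) (x : GolayPt → ℤ) : GolayPt → ℤ := fun i => (A *ᵥ x) i / 8

theorem toVec_coords (g : GolayPt → ℤ) :
    toVec ((List.range 24).map fun k => g (pt (Fin.ofNat 24 k))) = g := by
  funext p
  rw [toVec, getD_map_range _ (idx_lt p), show Fin.ofNat 24 (idx p) = ⟨idx p, idx_lt p⟩ from
    Fin.ext (Nat.mod_eq_of_lt (idx_lt p)), pt_idx p]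

theorem dvd_and_mem {M : List (List ℤ)} (hs : shapeOK M = true) (h : latticeOK M = true)
    {x : GolayPt → ℤ} (hx : x ∈ leechLattice) :
    (∀ i, 8 ∣ (toMat M *ᵥ x) i) ∧ mapMat (toMat M) x ∈ leechLattice := by
  let S : AddSubgroup (GolayPt → ℤ) :=
    { carrier := {y | (∀ i, 8 ∣ (toMat M *ᵥ y) i) ∧ mapMat (toMat M) y ∈ leechLattice}
      zero_mem' := by
        refine ⟨fun i => by simp, ?_⟩
        convert leechLattice.zero_mem using 1
        funext i; simp [mapMat]
      add_mem' := fun {a b} ha hb => by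
        refine ⟨fun i => by rw [Matrix.mulVec_add]; exact dvd_add (ha.1 i) (hb.1 i), ?_⟩
        convert leechLattice.add_mem ha.2 hb.2 using 1
        funext i
        simp only [mapMat, Pi.add_apply, Matrix.mulVec_add]
        exact Int.add_ediv_of_dvd_left (ha.1 i)
      neg_mem' := fun {a} ha => by
        refine ⟨fun i => by rw [Matrix.mulVec_neg]; exact dvd_neg.2 (ha.1 i), ?_⟩
        convert leechLattice.neg_mem ha.2 using 1
        funext i
        simp only [mapMat, Pi.neg_apply, Matrix.mulVec_neg]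
        exact Int.neg_ediv_of_dvd (ha.1 i) }
  refine leech_le (M := S) (fun g hg => ?_) hx
  have hk := List.all_eq_true.1 h g hg
  simp only [Bool.and_eq_true, List.all_eq_true, beq_iff_eq] at hk
  have he : ∀ i, (toMat M *ᵥ g) i =
      rowDot (M.getD (idx i) []) ((List.range 24).map fun k => g (pt (Fin.ofNat 24 k))) := fun i => by
    rw [← mulVec_eq hs (by simp) i, toVec_coords]
  refine ⟨fun i => by rw [he]; exact Int.dvd_of_emod_eq_zero (hk.1 i (mem_allPts i)), ?_⟩
  convert mem_of_inLB hk.2 using 1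
  funext i
  simp only [mapMat, he]

theorem shapeOK_transpose (M : List (List ℤ)) : shapeOK (transposeRows M) = true := by
  simp [shapeOK, transposeRows]

theorem toMat_transpose (M : List (List ℤ)) : toMat (transposeRows M) = (toMat M)ᵀ := by
  ext i j
  show entry (transposeRows M) (idx i) (idx j) = entry M (idx j) (idx i)
  rw [entry, transposeRows, getD_map_range _ (idx_lt i), getD_map_range _ (idx_lt j)]

/-- **A lattice automorphism from a matrix.** -/
theorem exists_of_matOK {M : List (List ℤ)} (h : matOK M = true) :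
    ∃ g : Co0, (∀ v : leechLattice, ((g • v : leechLattice) : GolayPt → ℤ) = mapMat (toMat M) v) ∧
      ∀ v : leechLattice, ((g⁻¹ • v : leechLattice) : GolayPt → ℤ) = mapMat (toMat (transposeRows M)) v := by
  simp only [matOK, Bool.and_eq_true] at h
  obtain ⟨⟨⟨hs, ho⟩, hl⟩, hl'⟩ := h
  have hs' := shapeOK_transpose M
  set A := toMat M with hA
  have hAt : toMat (transposeRows M) = Aᵀ := toMat_transpose M
  have h1 : Aᵀ * A = (64 : ℤ) • (1 : Matrix GolayPt GolayPt ℤ) := transpose_mul ho
  have h2 : A * Aᵀ = (64 : ℤ) • (1 : Matrix GolayPt GolayPt ℤ) := by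
    have hQ : Aᵀ.map (Int.cast : ℤ → ℚ) * ((1 / 64 : ℚ) • A.map (Int.cast : ℤ → ℚ)) = 1 := by
      rw [Matrix.mul_smul]
      have := congrArg (fun B : Matrix GolayPt GolayPt ℤ => B.map (Int.castRingHom ℚ)) h1
      simp only [Matrix.map_mul] at this
      rw [show ((Int.castRingHom ℚ : ℤ →+* ℚ) : ℤ → ℚ) = Int.cast from rfl] at this
      rw [this]
      ext i j
      simp only [Matrix.smul_apply, Matrix.map_apply, smul_eq_mul]
      rcases eq_or_ne i j with rfl | hij <;> simp [Matrix.one_apply, *]
    have hQ' := mul_eq_one_comm.1 hQ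
    rw [Matrix.smul_mul] at hQ'
    ext i j
    have h3 := congrFun (congrFun hQ' i) j
    rw [show ((A.map (Int.cast : ℤ → ℚ)) * Aᵀ.map (Int.cast : ℤ → ℚ)) =
      (A * Aᵀ).map (Int.castRingHom ℚ) from (Matrix.map_mul (f := Int.castRingHom ℚ)).symm] at h3
    rcases eq_or_ne i j with rfl | hij
    · simp at h3 ⊢
      exact_mod_cast (show (((A * Aᵀ) i i : ℤ) : ℚ) = 64 by linarith)
    · simp [hij] at h3 ⊢
      exact_mod_cast h3
  have hdiv : ∀ (B : Matrix GolayPt GolayPt ℤ) (x : GolayPt → ℤ), (∀ i, 8 ∣ (B *ᵥ x) i) →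
      B *ᵥ x = (8 : ℤ) • mapMat B x := fun B x hx => funext fun i => (Int.mul_ediv_cancel' (hx i)).symm
  have hinv : ∀ (B C : Matrix GolayPt GolayPt ℤ), C * B = (64 : ℤ) • (1 : Matrix GolayPt GolayPt ℤ) →
      ∀ x : GolayPt → ℤ, (∀ i, 8 ∣ (B *ᵥ x) i) → mapMat C (mapMat B x) = x := by
    intro B C hCB x hx
    have e : C *ᵥ (B *ᵥ x) = (64 : ℤ) • x := by rw [Matrix.mulVec_mulVec, hCB, Matrix.smul_mulVec, Matrix.one_mulVec]
    rw [hdiv B x hx, Matrix.mulVec_smul] at e
    funext i
    have := congrFun e i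
    simp only [Pi.smul_apply, smul_eq_mul] at this
    show (C *ᵥ mapMat B x) i / 8 = x i
    omega
  have hadd : ∀ x ∈ leechLattice, ∀ y ∈ leechLattice, mapMat A (x + y) = mapMat A x + mapMat A y := by
    intro x hx y _
    funext i
    simp only [mapMat, Pi.add_apply, Matrix.mulVec_add]
    exact Int.add_ediv_of_dvd_left ((dvd_and_mem hs hl hx).1 i)
  have hnorm : ∀ x ∈ leechLattice, sqNorm (mapMat A x) = sqNorm x := by
    intro x hx
    have e : (A *ᵥ x) ⬝ᵥ (A *ᵥ x) = 64 * (x ⬝ᵥ x) := by
      rw [Matrix.dotProduct_mulVec, Matrix.vecMul_mulVec, h1]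
      simp [Matrix.smul_mulVec, mul_comm]
    rw [hdiv A x (dvd_and_mem hs hl hx).1] at e
    simp only [dotProduct, Pi.smul_apply, smul_eq_mul] at e
    simp only [sqNorm]
    have e1 : ∑ i, 8 * mapMat A x i * (8 * mapMat A x i) = 64 * ∑ i, mapMat A x i ^ 2 := by
      rw [Finset.mul_sum]; exact Finset.sum_congr rfl fun i _ => by ring
    have e2 : ∑ i, x i * x i = ∑ i, x i ^ 2 := Finset.sum_congr rfl fun i _ => by ring
    rw [e1, e2] at e
    linarith
  rw [← hAt] at h1 h2
  exact ⟨mkAut (mapMat A) (mapMat (toMat (transposeRows M))) hadd (fun _ hx => (dvd_and_mem hs hl hx).2)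
    (fun x hx => (dvd_and_mem hs' hl' hx).2) (fun x hx => hinv A _ h1 x (dvd_and_mem hs hl hx).1)
    (fun x hx => hinv _ A h2 x (dvd_and_mem hs' hl' hx).1) hnorm, fun v => rfl, fun v => rfl⟩

/-! ### Models -/

/-- Componentwise equality of lists as vectors. -/
def eqV : List ℤ → List ℤ → Bool
  | a :: as, b :: bs => a == b && eqV as bs
  | [], [] => true
  | _, _ => false

theorem eqV_iff : ∀ {a b : List ℤ}, eqV a b = true ↔ a = b
  | [], [] => by simp [eqV]
  | [], _ :: _ => by simp [eqV]
  | _ :: _, [] => by simp [eqV]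
  | a :: as, b :: bs => by simp [eqV, eqV_iff (a := as) (b := bs)]

theorem toVec_inj {a b : List ℤ} (ha : a.length = 24) (hb : b.length = 24) (h : toVec a = toVec b) :
    a = b := by
  refine List.ext_getElem (ha.trans hb.symm) fun k hk hk' => ?_
  have h' := congrFun h (pt ⟨k, ha ▸ hk⟩)
  simp only [toVec, idx_pt] at h'
  rwa [List.getD_eq_getElem _ _ hk, List.getD_eq_getElem _ _ hk'] at h'

/-- Distinct nonempty sets of lattice vectors. -/
def ptsOK (n : ℕ) (pts : List (List (List ℤ))) : Bool :=
  PermCert.allBelow (fun i =>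
    !(pts.getD i []).isEmpty && (pts.getD i []).all (fun x => Nat.beq x.length 24 && inLB (toVec x)) &&
      PermCert.allBelow (fun j => Nat.beq i j || !(pts.getD j []).any (eqV ((pts.getD i []).headD []))) n) n

/-- The image of a listed vector is listed at the image point. -/
def imageOK (w n : ℕ) (pts : List (List (List ℤ))) (M : List (List ℤ)) (code : ℕ) : Bool :=
  PermCert.allBelow (fun i => (pts.getD i []).all fun x =>
    (pts.getD (PermCert.get w code i) []).any (eqV (M.map fun r => rowDot r x / 8))) n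

variable (n : ℕ) (pts : List (List (List ℤ)))

/-- The vectors of a point. -/
def ptSet (i : Fin n) : Set leechLattice := {x | ∃ l ∈ pts.getD i [], toVec l = (x : GolayPt → ℤ)}

/-- The pairs of an automorphism and the permutation it induces. -/
def rel : Subgroup (Co0 × Equiv.Perm (Fin n)) where
  carrier := {q | ∀ i x, x ∈ ptSet n pts i ↔ q.1 • x ∈ ptSet n pts (q.2 i)}
  one_mem' i x := by simp
  mul_mem' {p q} hp hq i x := by
    rw [hq i x, hp (q.2 i) (q.1 • x), Prod.fst_mul, Prod.snd_mul, Equiv.Perm.mul_apply, mul_smul]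
  inv_mem' {p} hp i x := by
    rw [Prod.fst_inv, Prod.snd_inv, hp (p.2⁻¹ i) (p.1⁻¹ • x), smul_inv_smul, Equiv.Perm.inv_def, Equiv.apply_symm_apply]

variable {n pts}

theorem mapMat_toVec {M : List (List ℤ)} (hM : shapeOK M = true) {x : List ℤ} (hx : x.length = 24) :
    mapMat (toMat M) (toVec x) = toVec (M.map fun r => rowDot r x / 8) := by
  funext i
  have hi : idx i < M.length := by
    simp only [shapeOK, Bool.and_eq_true, Nat.beq_eq] at hM
    rw [hM.1]; exact idx_lt i
  rw [mapMat, mulVec_eq hM hx]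
  simp only [toVec]
  rw [List.getD_eq_getElem _ _ hi, List.getD_eq_getElem _ _ (by simpa using hi), List.getElem_map]

theorem image_mem {w : ℕ} (hp : ptsOK n pts = true) {M : List (List ℤ)} (hM : shapeOK M = true)
    {code : ℕ} (h : imageOK w n pts M code = true) {π : Fin n → Fin n}
    (hπ : ∀ i : Fin n, PermCert.get w code i = π i) {g : Co0}
    (hg : ∀ v : leechLattice, ((g • v : leechLattice) : GolayPt → ℤ) = mapMat (toMat M) v)
    {i : Fin n} {x : leechLattice} (hx : x ∈ ptSet n pts i) : g • x ∈ ptSet n pts (π i) := by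
  obtain ⟨l, hl, hlx⟩ := hx
  have h1 := List.all_eq_true.1 (PermCert.allBelow_spec _ _ h i i.2) l hl
  rw [List.any_eq_true, hπ] at h1
  obtain ⟨l', hl', he⟩ := h1
  have hlen : l.length = 24 := by
    have := PermCert.allBelow_spec _ _ hp i i.2
    simp only [Bool.and_eq_true, List.all_eq_true, Nat.beq_eq] at this
    exact (this.1.2 l hl).1
  exact ⟨l', hl', by rw [hg, ← hlx, mapMat_toVec hM hlen, eqV_iff.1 he]⟩

theorem mem_rel {w : ℕ} (hp : ptsOK n pts = true) {M : List (List ℤ)} {e : PermCert.Elt}
    (hv : PermCert.validElt w n e = true) (hM : matOK M = true) (h1 : imageOK w n pts M e.1 = true)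
    (h2 : imageOK w n pts (transposeRows M) e.2 = true) {g : Co0}
    (hg : ∀ v : leechLattice, ((g • v : leechLattice) : GolayPt → ℤ) = mapMat (toMat M) v)
    (hg' : ∀ v : leechLattice, ((g⁻¹ • v : leechLattice) : GolayPt → ℤ) =
      mapMat (toMat (transposeRows M)) v) :
    ((g, PermCert.toPerm w n e) : Co0 × Equiv.Perm (Fin n)) ∈ rel n pts := by
  simp only [matOK, Bool.and_eq_true] at hM
  have hr := PermCert.rep_toPerm hv
  intro i x
  refine ⟨image_mem hp hM.1.1.1 h1 (fun j => (hr j).1) hg, fun hx => ?_⟩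
  have := image_mem (π := fun j => (PermCert.toPerm w n e)⁻¹ j) hp (shapeOK_transpose M) h2
    (fun j => (hr j).2) hg' hx
  simpa using this

theorem perm_unique (hp : ptsOK n pts = true) {π : Equiv.Perm (Fin n)}
    (h : ((1, π) : Co0 × Equiv.Perm (Fin n)) ∈ rel n pts) : π = 1 := by
  ext i
  have hk := fun j : Fin n => by
    have := PermCert.allBelow_spec _ _ hp j j.2
    simpa only [Bool.and_eq_true, List.all_eq_true, Nat.beq_eq, Bool.not_eq_true', List.isEmpty_eq_false_iff]
      using this
  obtain ⟨⟨hne, hmem⟩, hall⟩ := hk i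
  obtain ⟨l, ls, hls⟩ := List.exists_cons_of_ne_nil hne
  have hl := hmem l (by rw [hls]; exact List.mem_cons_self)
  let x : leechLattice := ⟨toVec l, mem_of_inLB hl.2⟩
  obtain ⟨l', hl', he⟩ := (h i x).1 ⟨l, by rw [hls]; exact List.mem_cons_self, rfl⟩
  simp only [one_smul] at he
  have hl'24 : l'.length = 24 := ((hk (π i)).1.2 l' hl').1
  have hj := PermCert.allBelow_spec _ _ hall (π i) (π i).2
  simp only [hls, List.headD_cons, Bool.or_eq_true, Nat.beq_eq, Bool.not_eq_true'] at hj
  rcases hj with hj | hj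
  · simp [hj]
  · exfalso
    rw [List.any_eq_false] at hj
    exact hj l' hl' (eqV_iff.2 (toVec_inj hl.1 hl'24 he.symm))

/-- A matrix fixes a vector. -/
def fixOK (M : List (List ℤ)) (x : List ℤ) : Bool :=
  Nat.beq x.length 24 && eqV (M.map fun r => rowDot r x / 8) x

theorem smul_eq_of_fixOK {M : List (List ℤ)} (hM : matOK M = true) {x : List ℤ} (h : fixOK M x = true)
    {g : Co0} (hg : ∀ v : leechLattice, ((g • v : leechLattice) : GolayPt → ℤ) = mapMat (toMat M) v)
    {v : leechLattice} (hv : (v : GolayPt → ℤ) = toVec x) : g • v = v := by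
  simp only [matOK, Bool.and_eq_true] at hM
  simp only [fixOK, Bool.and_eq_true, Nat.beq_eq] at h
  exact Subtype.ext (by rw [hg, hv, mapMat_toVec hM.1.1.1 h.1, eqV_iff.1 h.2])

theorem lightSet_nonempty {w n : ℕ} : ∀ {L : List PermCert.CLevel}, PermCert.LightSpec w n L →
    (PermCert.lightSet w n L).Nonempty
  | [], _ => ⟨1, rfl⟩
  | (b, S, T) :: L, h => by
    obtain ⟨t, ht, -, h1⟩ := h.2.2.2.2.2.1
    obtain ⟨g, hg⟩ := lightSet_nonempty h.1
    exact ⟨1 * g, t, ht, 1, h1, g, hg, rfl⟩

/-- **A group with enough realised generators is a copy of the coded group**, and the light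
certificate of the coded group implies the full one. -/
theorem exists_equiv {w : ℕ} [NeZero n] (hp : ptsOK n pts = true) (G : Subgroup Co0)
    {gens : List PermCert.Elt} {derived : List (PermCert.Elt × List ℕ)} {levels : List PermCert.CLevel}
    (hl : PermCert.lightCert w n gens derived levels = true)
    (hcard : Nat.card G = PermCert.certOrder levels)
    (hgens : ∀ e ∈ gens, ∃ g ∈ G, ((g, PermCert.toPerm w n e) : Co0 × Equiv.Perm (Fin n)) ∈ rel n pts) :
    PermCert.checkCert w n gens derived levels = true ∧ Nonempty (G ≃* PermCert.genGroup w n gens) := by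
  haveI : Finite G := Nat.finite_of_card_ne_zero (by
    rw [hcard, ← PermCert.ncard_lightSet (PermCert.light_facts hl).1]
    obtain ⟨hs, hlev, hne, -⟩ := PermCert.light_facts hl
    exact ((Set.ncard_pos (Set.toFinite _)).2 (lightSet_nonempty hs)).ne')
  let K : Subgroup (Co0 × Equiv.Perm (Fin n)) := rel n pts ⊓ G.comap (MonoidHom.fst _ _)
  let f : K →* G :=
    ((MonoidHom.fst _ _).comp K.subtype).codRestrict G fun k => k.2.2
  let s : K →* Equiv.Perm (Fin n) := (MonoidHom.snd _ _).comp K.subtype
  have hf : Function.Injective f := (injective_iff_map_eq_one f).2 fun k hk => by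
    have h1 : k.1.1 = 1 := congrArg Subtype.val hk
    have h2 : k.1 ∈ rel n pts := k.2.1
    rw [show k.1 = (1, k.1.2) from Prod.ext h1 rfl] at h2
    exact Subtype.ext (Prod.ext h1 (perm_unique hp h2))
  haveI : Finite K := Finite.of_injective f hf
  have hle : PermCert.genGroup w n gens ≤ s.range := by
    refine (Subgroup.closure_le _).2 fun σ hσ => ?_
    obtain ⟨e, he, rfl⟩ := List.mem_map.1 hσ
    obtain ⟨g, hg, hr⟩ := hgens e he
    exact ⟨⟨(g, PermCert.toPerm w n e), hr, hg⟩, rfl⟩
  have h1 : Nat.card K ≤ Nat.card G := Nat.card_le_card_of_injective f hf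
  have h2 : Nat.card (PermCert.genGroup w n gens) ≤ Nat.card s.range :=
    Subgroup.card_le_of_le hle
  have h3 : Nat.card s.range ≤ Nat.card K :=
    Nat.card_le_card_of_surjective _ s.rangeRestrict_surjective
  have hc : PermCert.checkCert w n gens derived levels = true :=
    PermCert.checkCert_of_light hl (by omega)
  rw [PermCert.cert_card hc] at h2
  have hKG : Nat.card K = Nat.card G := by omega
  have hs : Nat.card s.range = Nat.card (PermCert.genGroup w n gens) := by
    rw [PermCert.cert_card hc]; omega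
  have e1 : PermCert.genGroup w n gens = s.range := Subgroup.eq_of_le_of_card_ge hle hs.le
  have bf : Function.Bijective f := (Nat.bijective_iff_injective_and_card f).2 ⟨hf, hKG⟩
  have bs : Function.Bijective s.rangeRestrict :=
    (Nat.bijective_iff_surjective_and_card _).2 ⟨s.rangeRestrict_surjective, by omega⟩
  exact ⟨hc, ⟨(MulEquiv.ofBijective f bf).symm.trans
    ((MulEquiv.ofBijective s.rangeRestrict bs).trans (MulEquiv.subgroupCongr e1.symm))⟩⟩

end Cfsg.Agent.SporPerm
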