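import Cfsg.Agent.Lib.SporPerm.Realise
import Cfsg.Agent.Lib.SporPerm.Co3Data
import Cfsg.Agent.Lib.Leech.SporGroups

/-! Co3 is isomorphic to its coded permutation model. -/

set_option autoImplicit false
set_option maxRecDepth 20000
set_option Elab.async false

namespace Cfsg.Agent.SporPerm

open Cfsg Cfsg.Agent.PermCert

theorem co3_light : lightCert 9 276 co3Gens co3Derived co3Levels = true := by decide +kernel

theorem co3_order : certOrder co3Levels = 495766656000 := by decide +kernel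

theorem co3_pts : ptsOK 276 co3Pts = true := by decide +kernel

theorem co3_gen0 : matOK co3Mat0 = true ∧ validElt 9 276 (co3Gens.getD 0 (0, 0)) = true ∧
    imageOK 9 276 co3Pts co3Mat0 (co3Gens.getD 0 (0, 0)).1 = true ∧
    imageOK 9 276 co3Pts (transposeRows co3Mat0) (co3Gens.getD 0 (0, 0)).2 = true ∧
    fixOK co3Mat0 [(-1), (-1), (-1), (-1), (-1), (-1), (-1), (-1), (-1), (-1), (-1), (-1), (-1), (-1), (-1), (-1), (-1), (-1), (-1), (-1), (-1), (-1), (-1), (-5)] = true := by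
  decide +kernel

theorem co3_gen1 : matOK co3Mat1 = true ∧ validElt 9 276 (co3Gens.getD 1 (0, 0)) = true ∧
    imageOK 9 276 co3Pts co3Mat1 (co3Gens.getD 1 (0, 0)).1 = true ∧
    imageOK 9 276 co3Pts (transposeRows co3Mat1) (co3Gens.getD 1 (0, 0)).2 = true ∧
    fixOK co3Mat1 [(-1), (-1), (-1), (-1), (-1), (-1), (-1), (-1), (-1), (-1), (-1), (-1), (-1), (-1), (-1), (-1), (-1), (-1), (-1), (-1), (-1), (-1), (-1), (-5)] = true := by
  decide +kernel

theorem co3_fix0 : ((Spor.leechV : leechLattice) : GolayPt → ℤ) = LeechMod.toVec [(-1), (-1), (-1), (-1), (-1), (-1), (-1), (-1), (-1), (-1), (-1), (-1), (-1), (-1), (-1), (-1), (-1), (-1), (-1), (-1), (-1), (-1), (-1), (-5)] := by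
  funext p; revert p; decide +kernel

theorem co3_model : checkCert 9 276 co3Gens co3Derived co3Levels = true ∧
    Nonempty (↥Spor.Co3 ≃* genGroup 9 276 co3Gens) := by
  have hle : Spor.Co3 ≤ Co0 := inf_le_left
  have hgen : ∀ i < 2, ∃ g ∈ Spor.Co3.subgroupOf Co0,
      ((g, toPerm 9 276 (co3Gens.getD i (0, 0))) : Co0 × Equiv.Perm (Fin 276)) ∈ rel 276 co3Pts := by
    have key : ∀ M e, (matOK M = true ∧ validElt 9 276 e = true ∧ imageOK 9 276 co3Pts M e.1 = true ∧
        imageOK 9 276 co3Pts (transposeRows M) e.2 = true ∧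
        fixOK M [(-1), (-1), (-1), (-1), (-1), (-1), (-1), (-1), (-1), (-1), (-1), (-1), (-1), (-1), (-1), (-1), (-1), (-1), (-1), (-1), (-1), (-1), (-1), (-5)] = true) →
        ∃ g ∈ Spor.Co3.subgroupOf Co0,
          ((g, toPerm 9 276 e) : Co0 × Equiv.Perm (Fin 276)) ∈ rel 276 co3Pts := by
      intro M e ⟨hM, hv, h1, h2, f0⟩
      obtain ⟨g, hg, hg'⟩ := exists_of_matOK hM
      refine ⟨g, ?_, mem_rel co3_pts hv hM h1 h2 hg hg'⟩
      have e0 : g • Spor.leechV = Spor.leechV := smul_eq_of_fixOK hM f0 hg co3_fix0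
      exact ⟨g.2, e0⟩
    intro i hi
    interval_cases i
    exacts [key _ _ co3_gen0, key _ _ co3_gen1]
  obtain ⟨hc, ⟨e⟩⟩ := exists_equiv co3_pts (Spor.Co3.subgroupOf Co0) co3_light
    (by rw [Nat.card_congr (Subgroup.subgroupOfEquivOfLe hle).toEquiv, Leech.isCo3_spor.2, co3_order])
    (fun e he => by
      obtain ⟨i, hi, rfl⟩ := List.mem_iff_getElem.1 he
      obtain ⟨g, hg, hr⟩ := hgen i hi
      rw [List.getD_eq_getElem _ _ hi] at hr
      exact ⟨g, hg, hr⟩)
  exact ⟨hc, ⟨(Subgroup.subgroupOfEquivOfLe hle).symm.trans e⟩⟩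

theorem co3_cert : checkCert 9 276 co3Gens co3Derived co3Levels = true := co3_model.1

/-- **The permutation model.** -/
theorem co3_equiv : Nonempty (↥Spor.Co3 ≃* genGroup 9 276 co3Gens) := co3_model.2

end Cfsg.Agent.SporPerm
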