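import Cfsg.Agent.Lib.SporPerm.Realise
import Cfsg.Agent.Lib.SporPerm.McLData
import Cfsg.Agent.Lib.Leech.SporGroups

/-! McL is isomorphic to its coded permutation model. -/

set_option autoImplicit false
set_option maxRecDepth 20000
set_option Elab.async false

namespace Cfsg.Agent.SporPerm

open Cfsg Cfsg.Agent.PermCert

theorem mcl_light : lightCert 9 275 mclGens mclDerived mclLevels = true := by decide +kernel

theorem mcl_order : certOrder mclLevels = 898128000 := by decide +kernel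

theorem mcl_pts : ptsOK 275 mclPts = true := by decide +kernel

theorem mcl_gen0 : matOK mclMat0 = true ∧ validElt 9 275 (mclGens.getD 0 (0, 0)) = true ∧
    imageOK 9 275 mclPts mclMat0 (mclGens.getD 0 (0, 0)).1 = true ∧
    imageOK 9 275 mclPts (transposeRows mclMat0) (mclGens.getD 0 (0, 0)).2 = true ∧
    fixOK mclMat0 [(-1), (-1), (-1), (-1), (-1), (-1), (-1), (-1), (-1), (-1), (-1), (-1), (-1), (-1), (-1), (-1), (-1), (-1), (-1), (-1), (-1), (-1), (-1), (-5)] = true ∧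
    fixOK mclMat0 [4, 0, 0, 0, 0, 0, 0, 0, 0, 0, 0, 0, 0, 0, 0, 0, 0, 0, 0, 0, 0, 0, 0, 4] = true := by
  decide +kernel

theorem mcl_gen1 : matOK mclMat1 = true ∧ validElt 9 275 (mclGens.getD 1 (0, 0)) = true ∧
    imageOK 9 275 mclPts mclMat1 (mclGens.getD 1 (0, 0)).1 = true ∧
    imageOK 9 275 mclPts (transposeRows mclMat1) (mclGens.getD 1 (0, 0)).2 = true ∧
    fixOK mclMat1 [(-1), (-1), (-1), (-1), (-1), (-1), (-1), (-1), (-1), (-1), (-1), (-1), (-1), (-1), (-1), (-1), (-1), (-1), (-1), (-1), (-1), (-1), (-1), (-5)] = true ∧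
    fixOK mclMat1 [4, 0, 0, 0, 0, 0, 0, 0, 0, 0, 0, 0, 0, 0, 0, 0, 0, 0, 0, 0, 0, 0, 0, 4] = true := by
  decide +kernel

theorem mcl_fix0 : ((Spor.leechV : leechLattice) : GolayPt → ℤ) = LeechMod.toVec [(-1), (-1), (-1), (-1), (-1), (-1), (-1), (-1), (-1), (-1), (-1), (-1), (-1), (-1), (-1), (-1), (-1), (-1), (-1), (-1), (-1), (-1), (-1), (-5)] := by
  funext p; revert p; decide +kernel

theorem mcl_fix1 : ((Spor.leechU : leechLattice) : GolayPt → ℤ) = LeechMod.toVec [4, 0, 0, 0, 0, 0, 0, 0, 0, 0, 0, 0, 0, 0, 0, 0, 0, 0, 0, 0, 0, 0, 0, 4] := by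
  funext p; revert p; decide +kernel

theorem mcl_model : checkCert 9 275 mclGens mclDerived mclLevels = true ∧
    Nonempty (↥Spor.McL ≃* genGroup 9 275 mclGens) := by
  have hle : Spor.McL ≤ Co0 := inf_le_left.trans inf_le_left
  have hgen : ∀ i < 2, ∃ g ∈ Spor.McL.subgroupOf Co0,
      ((g, toPerm 9 275 (mclGens.getD i (0, 0))) : Co0 × Equiv.Perm (Fin 275)) ∈ rel 275 mclPts := by
    have key : ∀ M e, (matOK M = true ∧ validElt 9 275 e = true ∧ imageOK 9 275 mclPts M e.1 = true ∧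
        imageOK 9 275 mclPts (transposeRows M) e.2 = true ∧
        fixOK M [(-1), (-1), (-1), (-1), (-1), (-1), (-1), (-1), (-1), (-1), (-1), (-1), (-1), (-1), (-1), (-1), (-1), (-1), (-1), (-1), (-1), (-1), (-1), (-5)] = true ∧
        fixOK M [4, 0, 0, 0, 0, 0, 0, 0, 0, 0, 0, 0, 0, 0, 0, 0, 0, 0, 0, 0, 0, 0, 0, 4] = true) →
        ∃ g ∈ Spor.McL.subgroupOf Co0,
          ((g, toPerm 9 275 e) : Co0 × Equiv.Perm (Fin 275)) ∈ rel 275 mclPts := by
      intro M e ⟨hM, hv, h1, h2, f0, f1⟩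
      obtain ⟨g, hg, hg'⟩ := exists_of_matOK hM
      refine ⟨g, ?_, mem_rel mcl_pts hv hM h1 h2 hg hg'⟩
      have e0 : g • Spor.leechV = Spor.leechV := smul_eq_of_fixOK hM f0 hg mcl_fix0
      have e1 : g • Spor.leechU = Spor.leechU := smul_eq_of_fixOK hM f1 hg mcl_fix1
      exact ⟨⟨g.2, e0⟩, e1⟩
    intro i hi
    interval_cases i
    exacts [key _ _ mcl_gen0, key _ _ mcl_gen1]
  obtain ⟨hc, ⟨e⟩⟩ := exists_equiv mcl_pts (Spor.McL.subgroupOf Co0) mcl_light
    (by rw [Nat.card_congr (Subgroup.subgroupOfEquivOfLe hle).toEquiv, Leech.isMcL_spor.2, mcl_order])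
    (fun e he => by
      obtain ⟨i, hi, rfl⟩ := List.mem_iff_getElem.1 he
      obtain ⟨g, hg, hr⟩ := hgen i hi
      rw [List.getD_eq_getElem _ _ hi] at hr
      exact ⟨g, hg, hr⟩)
  exact ⟨hc, ⟨(Subgroup.subgroupOfEquivOfLe hle).symm.trans e⟩⟩

theorem mcl_cert : checkCert 9 275 mclGens mclDerived mclLevels = true := mcl_model.1

/-- **The permutation model.** -/
theorem mcl_equiv : Nonempty (↥Spor.McL ≃* genGroup 9 275 mclGens) := mcl_model.2

end Cfsg.Agent.SporPerm
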