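import Cfsg.Agent.Lib.SporPerm.HSCoverTop
import Cfsg.Agent.Lib.SporPerm.HSCoverData
import Cfsg.Agent.Lib.SporPerm.HSData

/-! Kernel checks of the double cover of HS. -/

set_option autoImplicit false
set_option maxRecDepth 20000
set_option Elab.async false

namespace Cfsg.Agent.SporPerm

open Cfsg.Agent.PermCert

theorem hs2_level1 : levelOK 100 7 704 10 hs2Z hs2L1 [hs2L2, hs2L3, hs2L4, hs2L5] = true := by decide +kernel

theorem hs2_level2 : levelOK 100 7 704 10 hs2Z hs2L2 [hs2L3, hs2L4, hs2L5] = true := by decide +kernel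

theorem hs2_level3 : levelOK 100 7 704 10 hs2Z hs2L3 [hs2L4, hs2L5] = true := by decide +kernel

theorem hs2_level4 : levelOK 100 7 704 10 hs2Z hs2L4 [hs2L5] = true := by decide +kernel

theorem hs2_level5 : levelOK 100 7 704 10 hs2Z hs2L5 [] = true := by decide +kernel

theorem hs2_chain : chainOK 100 7 704 10 hs2Z hs2Chain = true := by
  simp only [hs2Chain, chainOK, hs2_level0, hs2_level1, hs2_level2, hs2_level3, hs2_level4, hs2_level5, Bool.and_self]

theorem hs2_sheet : sheetOK 100 7 704 10 hs2Z = true := by decide +kernel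

theorem hs2_top : (topCover hs2Chain).map Prod.fst = hsGens := by decide +kernel

theorem hs2_order : coverOrder hs2Chain = 44352000 := by decide +kernel

theorem hs2_quad : quadSq 100 7 704 10 hs2Z (topCover hs2Chain) [0, 1, 0, 1, 0, 1] = true := by decide +kernel

end Cfsg.Agent.SporPerm
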