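import Cfsg.Agent.Lib.SporPerm.HSP2Data
import Cfsg.Agent.Lib.SporPerm.HSData

/-! Kernel checks of the 2-part certificate of HS. -/

set_option autoImplicit false
set_option maxRecDepth 20000
set_option Elab.async false

namespace Cfsg.Agent.SporPerm

open Cfsg.Agent.PermCert Cfsg.Agent.PermSchur

theorem hsP2_base : schurBaseOK 7 100 hsP2Data hsLevels = true := by decide +kernel

theorem hsP2_rows : rowsOK hsP2Data = true := by decide +kernel

theorem hsP2_rels : hsP2Data.rels.all (fun r => match r with
    | .assoc a b c => (a ++ b ++ c).all (fun q => Nat.blt q hsP2Data.a.length) | .fuse .. => true) = true := by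
  decide +kernel

theorem hsP2_derived : derivedOK 7 100 hsP2Data = true := by decide +kernel

theorem hsP2_orders : certOrder hsLevels / certOrder hsP2Data.levels = 86625 := by decide +kernel

theorem hsP2_ext : hsP2Data.ext.length + 1 = 2 := by decide +kernel

end Cfsg.Agent.SporPerm
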