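import Cfsg.Agent.Lib.Compute.CentOut
import Cfsg.Agent.Lib.SporPerm.HSFrameData
import Cfsg.Agent.Lib.SporPerm.HSData

/-! Kernel checks of the frame of HS. -/

set_option autoImplicit false
set_option maxRecDepth 20000
set_option Elab.async false

namespace Cfsg.Agent.SporPerm

open Cfsg.Agent.PermCert Cfsg.Agent.CentAut

theorem hsFr_light : lightCert 7 100 hsFrData.gens hsFrData.derived hsFrData.levels = true := by decide +kernel

theorem hsFr_sift : (hsFrData.gens.all fun g => validElt 7 100 g && sift 7 100 hsLevels g.1) = true := by
  decide +kernel

theorem hsFr_order : certOrder hsLevels = certOrder hsFrData.levels := by decide +kernel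

theorem hsFr_frame : frameOK 7 100 hsFrData = true := by decide +kernel

theorem hsFr_centX : centXOK 7 100 hsFrData = true := by decide +kernel

theorem hsFr_centN : centNOK 7 100 hsFrData = true := by decide +kernel

theorem hsFr_cases : casesOK 7 100 hsFrData true = true := by decide +kernel

theorem hsFr_outer : outerOK 7 100 hsFrData = true := by decide +kernel

end Cfsg.Agent.SporPerm
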