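import Cfsg.Agent.Lib.Compute.CentOut
import Cfsg.Agent.Lib.SporPerm.McLFrameData
import Cfsg.Agent.Lib.SporPerm.McLData

/-! Kernel checks of the frame of McL. -/

set_option autoImplicit false
set_option maxRecDepth 20000
set_option Elab.async false

namespace Cfsg.Agent.SporPerm

open Cfsg.Agent.PermCert Cfsg.Agent.CentAut

theorem mclFr_light : lightCert 9 275 mclFrData.gens mclFrData.derived mclFrData.levels = true := by decide +kernel

theorem mclFr_sift : (mclFrData.gens.all fun g => validElt 9 275 g && sift 9 275 mclLevels g.1) = true := by
  decide +kernel

theorem mclFr_order : certOrder mclLevels = certOrder mclFrData.levels := by decide +kernel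

theorem mclFr_frame : frameOK 9 275 mclFrData = true := by decide +kernel

theorem mclFr_centX : centXOK 9 275 mclFrData = true := by decide +kernel

theorem mclFr_centN : centNOK 9 275 mclFrData = true := by decide +kernel

theorem mclFr_cases : casesOK 9 275 mclFrData true = true := by decide +kernel

theorem mclFr_outer : outerOK 9 275 mclFrData = true := by decide +kernel

end Cfsg.Agent.SporPerm
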