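import Cfsg.Agent.Lib.Compute.CentOut
import Cfsg.Agent.Lib.SporPerm.Co3FrameData
import Cfsg.Agent.Lib.SporPerm.Co3Data

/-! Kernel checks of the frame of Co3. -/

set_option autoImplicit false
set_option maxRecDepth 20000
set_option Elab.async false

namespace Cfsg.Agent.SporPerm

open Cfsg.Agent.PermCert Cfsg.Agent.CentAut

theorem co3Fr_light : lightCert 9 276 co3FrData.gens co3FrData.derived co3FrData.levels = true := by decide +kernel

theorem co3Fr_sift : (co3FrData.gens.all fun g => validElt 9 276 g && sift 9 276 co3Levels g.1) = true := by
  decide +kernel

theorem co3Fr_order : certOrder co3Levels = certOrder co3FrData.levels := by decide +kernel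

theorem co3Fr_frame : frameOK 9 276 co3FrData = true := by decide +kernel

theorem co3Fr_centX : centXOK 9 276 co3FrData = true := by decide +kernel

theorem co3Fr_centN : centNOK 9 276 co3FrData = true := by decide +kernel

theorem co3Fr_cases : casesOK 9 276 co3FrData false = true := by decide +kernel

end Cfsg.Agent.SporPerm
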