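import Cfsg.Agent.Lib.SporPerm.Co3P23Data
import Cfsg.Agent.Lib.SporPerm.Co3Data

/-! Kernel checks of the 23-part certificate of Co3. -/

set_option autoImplicit false
set_option maxRecDepth 20000
set_option Elab.async false

namespace Cfsg.Agent.SporPerm

open Cfsg.Agent.PermCert Cfsg.Agent.PermSchur

theorem co3P23_base : schurBaseOK 9 276 co3P23Data co3Levels = true := by decide +kernel

theorem co3P23_rows : rowsOK co3P23Data = true := by decide +kernel

theorem co3P23_rels : co3P23Data.rels.all (fun r => match r with
    | .assoc a b c => (a ++ b ++ c).all (fun q => Nat.blt q co3P23Data.a.length) | .fuse .. => true) = true := by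
  decide +kernel

theorem co3P23_derived : derivedOK 9 276 co3P23Data = true := by decide +kernel

theorem co3P23_orders : certOrder co3Levels / certOrder co3P23Data.levels = 21555072000 := by decide +kernel

theorem co3P23_ext : co3P23Data.ext.length + 1 = 1 := by decide +kernel

end Cfsg.Agent.SporPerm
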