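import Cfsg.Agent.Lib.Compute.AutSpec
import Mathlib.GroupTheory.Abelianization.Defs

/-!
A double cover of a coded permutation group: lifts of the generators to permutations of a larger set, and a
chain of transversals of lifts whose products, up to the exchange, are closed under the lifted generators.
-/

set_option autoImplicit false

namespace Cfsg.Agent.SporPerm

open Cfsg.Agent.PermCert Cfsg.Agent.PermAut

/-- A code of an element with the code of a lift. -/
abbrev CoverElt : Type := Elt × Elt

/-- A signed letter. -/
abbrev Letter : Type := ℕ × Bool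

/-- One level: generators, transversal with its tree, the words of the next generators, and for each
generator and transversal element the path of the product through the chain. -/
structure CoverLevel where
  gens : List CoverElt
  trans : List CoverElt
  tree : List (ℕ × ℕ)
  down : List (List Letter)
  moves : List (List (List ℕ × Bool))

variable (n w N W : ℕ) (z : Elt)

/-- The generators of the first level. -/
def topCover : List CoverLevel → List CoverElt
  | [] => []
  | l :: _ => l.gens

/-- The elements of a path through the chain. -/
def pathElts : List CoverLevel → List ℕ → List CoverElt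
  | [], _ => []
  | l :: L, p => l.trans.getD (p.headD 0) ((0, 0), (0, 0)) :: pathElts L p.tail

/-- The indices of a path are in range. -/
def pathOK : List CoverLevel → List ℕ → Bool
  | [], p => p.isEmpty
  | l :: L, p => !p.isEmpty && Nat.blt (p.headD 0) l.trans.length && pathOK L p.tail

/-- The element of a letter, inverted for a marked one. -/
def letterElt (S : List CoverElt) (a : Letter) : CoverElt :=
  let e := S.getD a.1 ((0, 0), (0, 0))
  if a.2 then ((e.1.2, e.1.1), (e.2.2, e.2.1)) else e

/-- The letters of a power of the exchange. -/
def sheetElt (b : Bool) : List CoverElt := if b then [((idCode w n, idCode w n), z)] else []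

/-- Two lists of elements have equal products. -/
def sameP (as bs : List CoverElt) : Bool :=
  same w n (as.map fun e => e.1.1) (bs.map fun e => e.1.1) &&
    same W N (as.map fun e => e.2.1) (bs.map fun e => e.2.1)

/-- A code of the cover with valid halves. -/
def validC (e : CoverElt) : Bool := validElt w n e.1 && validElt W N e.2

/-- The generators of a level are valid and commute with the exchange. -/
def genOK (l : CoverLevel) : Bool :=
  l.gens.all fun e => validC n w N W e && same W N [e.2.1, z.1] [z.1, e.2.1]

/-- The transversal is a tree from the identity. -/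
def treeOK (l : CoverLevel) : Bool :=
  l.trans.all (validC n w N W) && Nat.blt 0 l.trans.length &&
  sameP n w N W [l.trans.getD 0 ((0, 0), (0, 0))] [] &&
  allBelow (fun k => Nat.beq k 0 ||
    (let r := l.tree.getD k (0, 0)
     Nat.blt r.2 k && Nat.blt r.1 l.gens.length &&
      sameP n w N W [l.gens.getD r.1 ((0, 0), (0, 0)), l.trans.getD r.2 ((0, 0), (0, 0))]
        [l.trans.getD k ((0, 0), (0, 0))])) l.trans.length

/-- The next generators are the values of the recorded words. -/
def downOK (l : CoverLevel) (L : List CoverLevel) : Bool :=
  allBelow (fun k =>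
    let u := l.down.getD k []
    u.all (fun a => Nat.blt a.1 l.gens.length) &&
      sameP n w N W (u.map (letterElt l.gens)) [(topCover L).getD k ((0, 0), (0, 0))]) (topCover L).length

/-- The products of a generator and a transversal element stay in the chain. -/
def moveOK (l : CoverLevel) (L : List CoverLevel) : Bool :=
  allBelow (fun s => allBelow (fun t =>
    let r := (l.moves.getD s []).getD t ([], false)
    pathOK (l :: L) r.1 &&
      sameP n w N W [l.gens.getD s ((0, 0), (0, 0)), l.trans.getD t ((0, 0), (0, 0))]
        (pathElts (l :: L) r.1 ++ sheetElt n w z r.2)) l.trans.length) l.gens.length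

/-- All checks on one level above the levels below it. -/
def levelOK (l : CoverLevel) (L : List CoverLevel) : Bool :=
  genOK n w N W z l && treeOK n w N W l && downOK n w N W l L && moveOK n w N W z l L

/-- All levels. -/
def chainOK : List CoverLevel → Bool
  | [] => true
  | l :: L => chainOK L && levelOK n w N W z l L

/-- Product of the transversal lengths. -/
def coverOrder : List CoverLevel → ℕ
  | [] => 1
  | l :: L => l.trans.length * coverOrder L

/-- The code is an exchange. -/
def sheetOK : Bool := Nat.ble n (2 ^ w) && validElt W N z && !same W N [z.1] [] && same W N [z.1, z.1] []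

section Proof

variable {n w N W z}

/-- The pair of permutations of a code. -/
def cperm (e : CoverElt) : Equiv.Perm (Fin n) × Equiv.Perm (Fin N) := (toPerm w n e.1, toPerm W N e.2)

theorem same_toPerm {as bs : List Elt} (ha : ∀ e ∈ as, validElt w n e = true)
    (hb : ∀ e ∈ bs, validElt w n e = true) [NeZero n]
    (h : same w n (as.map Prod.fst) (bs.map Prod.fst) = true) :
    (as.map (toPerm w n)).prod = (bs.map (toPerm w n)).prod := by
  have hA : ∀ {cs : List Elt}, (∀ e ∈ cs, validElt w n e = true) →
      ∀ q ∈ cs.map (fun e => (e.1, toPerm w n e)), Fwd w q := by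
    intro cs hcs q hq
    obtain ⟨e, he, rfl⟩ := List.mem_map.1 hq
    exact fwd_rep (rep_toPerm (hcs e he))
  have := (same_iff (w := w) (A := as.map fun e => (e.1, toPerm w n e))
    (B := bs.map fun e => (e.1, toPerm w n e)) (hA ha) (hA hb)).1 (by simpa [Function.comp_def] using h)
  simpa [Function.comp_def] using this

variable [NeZero n] [NeZero N]

theorem sameP_spec {as bs : List CoverElt} (ha : ∀ e ∈ as, validC n w N W e = true)
    (hb : ∀ e ∈ bs, validC n w N W e = true) (h : sameP n w N W as bs = true) :
    (as.map (cperm (w := w) (W := W) (n := n) (N := N))).prod =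
      (bs.map (cperm (w := w) (W := W) (n := n) (N := N))).prod := by
  simp only [sameP, validC, Bool.and_eq_true] at h ha hb
  refine Prod.ext ?_ ?_
  · have := same_toPerm (as := as.map Prod.fst) (bs := bs.map Prod.fst)
      (by simpa using fun e e' he => (ha (e, e') he).1) (by simpa using fun e e' he => (hb (e, e') he).1)
      (by simpa [Function.comp_def] using h.1)
    rw [show (as.map (cperm (w := w) (W := W) (n := n) (N := N))).prod.1 = _ from
      map_list_prod (MonoidHom.fst _ _) _, show (bs.map (cperm (w := w) (W := W) (n := n) (N := N))).prod.1 = _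
      from map_list_prod (MonoidHom.fst _ _) _]
    simpa [Function.comp_def, cperm] using this
  · have := same_toPerm (as := as.map Prod.snd) (bs := bs.map Prod.snd)
      (fun e he => by obtain ⟨x, hx, rfl⟩ := List.mem_map.1 he; exact (ha x hx).2)
      (fun e he => by obtain ⟨x, hx, rfl⟩ := List.mem_map.1 he; exact (hb x hx).2)
      (by simpa [Function.comp_def] using h.2)
    rw [show (as.map (cperm (w := w) (W := W) (n := n) (N := N))).prod.2 = _ from
      map_list_prod (MonoidHom.snd _ _) _, show (bs.map (cperm (w := w) (W := W) (n := n) (N := N))).prod.2 = _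
      from map_list_prod (MonoidHom.snd _ _) _]
    simpa [Function.comp_def, cperm] using this

/-- The exchange. -/
def sheet (z : Elt) : Equiv.Perm (Fin n) × Equiv.Perm (Fin N) := (1, toPerm W N z)

theorem valid_idCode (hn : n ≤ 2 ^ w) : validElt w n (idCode w n, idCode w n) = true := by
  suffices ∀ k ≤ n, allBelow (fun i => Nat.blt (get w (idCode w n) i) n && Nat.blt (get w (idCode w n) i) n &&
      Nat.beq (get w (idCode w n) (get w (idCode w n) i)) i &&
      Nat.beq (get w (idCode w n) (get w (idCode w n) i)) i) k = true from this n le_rfl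
  intro k
  induction k with
  | zero => intro _; rfl
  | succ k ih =>
    intro hk
    have h1 := get_idCode w n k hn (by omega)
    show (allBelow _ k && _) = true
    rw [ih (by omega)]
    simp [h1, show k < n by omega]

theorem toPerm_one (hn : n ≤ 2 ^ w) : toPerm w n (idCode w n, idCode w n) = 1 :=
  rep_unique (rep_toPerm (valid_idCode hn)) (rep_one hn)

theorem validC_sheetElt (hz : sheetOK n w N W z = true) {b : Bool} {e : CoverElt}
    (he : e ∈ sheetElt n w z b) : validC n w N W e = true := by
  simp only [sheetOK, Bool.and_eq_true, Nat.ble_eq] at hz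
  unfold sheetElt at he
  split at he
  · rw [List.mem_singleton.1 he]
    simp only [validC, Bool.and_eq_true]
    exact ⟨valid_idCode hz.1.1.1, hz.1.1.2⟩
  · simp at he

/-- The products along the chain, times a power of the exchange. -/
def coverSet (W w : ℕ) (z : Elt) : List CoverLevel → Set (Equiv.Perm (Fin n) × Equiv.Perm (Fin N))
  | [] => {1, sheet (W := W) z}
  | l :: L => {x | ∃ t ∈ l.trans, ∃ a ∈ coverSet W w z L, cperm (w := w) (W := W) t * a = x}

/-- The group of the top of a chain with the exchange. -/
def coverGroup (W w : ℕ) (z : Elt) (L : List CoverLevel) :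
    Subgroup (Equiv.Perm (Fin n) × Equiv.Perm (Fin N)) :=
  Subgroup.closure (insert (sheet (W := W) z) {x | ∃ e ∈ topCover L, cperm (w := w) (W := W) e = x})

omit [NeZero n] [NeZero N] in
theorem ncard_coverSet : ∀ L, (coverSet (n := n) (N := N) W w z L).ncard ≤ 2 * coverOrder L
  | [] => (Set.ncard_insert_le _ _).trans (by simp [coverOrder])
  | l :: L => by
    classical
    have hsub : coverSet (n := n) (N := N) W w z (l :: L) ⊆
        (fun q : CoverElt × (Equiv.Perm (Fin n) × Equiv.Perm (Fin N)) => cperm (w := w) (W := W) q.1 * q.2) ''
          ((l.trans.toFinset : Set CoverElt) ×ˢ coverSet W w z L) := by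
      rintro x ⟨t, ht, a, ha, rfl⟩
      exact ⟨(t, a), ⟨by simpa using ht, ha⟩, rfl⟩
    refine (Set.ncard_le_ncard hsub (Set.toFinite _)).trans ((Set.ncard_image_le (Set.toFinite _)).trans ?_)
    rw [Set.ncard_prod, Set.ncard_coe_finset, coverOrder]
    calc _ ≤ l.trans.length * (2 * coverOrder L) :=
          Nat.mul_le_mul (List.toFinset_card_le _) (ncard_coverSet L)
      _ = _ := by ring

theorem prod_path : ∀ (L : List CoverLevel) (p : List ℕ), chainOK n w N W z L = true → pathOK L p = true →
    ∀ a ∈ coverSet (n := n) (N := N) W w z [],
      ((pathElts L p).map (cperm (w := w) (W := W))).prod * a ∈ coverSet (n := n) (N := N) W w z L ∧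
        ∀ e ∈ pathElts L p, validC n w N W e = true
  | [], p, _, _, a, ha => by simp [pathElts, ha]
  | l :: L, p, hc, hp, a, ha => by
    simp only [pathOK, Bool.and_eq_true, Nat.blt_eq] at hp
    simp only [chainOK, levelOK, treeOK, Bool.and_eq_true, List.all_eq_true] at hc
    obtain ⟨h1, h2⟩ := prod_path L p.tail hc.1 hp.2 a ha
    have hm : l.trans.getD (p.headD 0) ((0, 0), (0, 0)) ∈ l.trans := by
      rw [List.getD_eq_getElem _ _ hp.1.2]; exact List.getElem_mem _
    refine ⟨⟨_, hm, _, h1, ?_⟩, fun e he => ?_⟩
    · rw [pathElts, List.map_cons, List.prod_cons, mul_assoc]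
    · rcases List.mem_cons.1 he with rfl | he
      · exact hc.2.1.1.2.1.1.1 _ hm
      · exact h2 e he

/-- The products along the chain form the group of its top. -/
theorem coverSet_eq (hz : sheetOK n w N W z = true) : ∀ L, chainOK n w N W z L = true →
    coverSet (n := n) (N := N) W w z L = (coverGroup (n := n) (N := N) W w z L : Set _)
  | [], _ => by
    simp only [sheetOK, Bool.and_eq_true] at hz
    have hzz : sheet (n := n) (N := N) (W := W) z * sheet (W := W) z = 1 := by
      refine Prod.ext (mul_one _) ?_
      have := same_toPerm (w := W) (n := N) (as := [z, z]) (bs := []) (by simp [hz.1.1.2]) (by simp)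
        (by simpa using hz.2)
      simpa [sheet] using this
    have hgrp : (coverGroup (n := n) (N := N) W w z [] : Set (Equiv.Perm (Fin n) × Equiv.Perm (Fin N))) = {1, sheet (W := W) z} := by
      rw [coverGroup, show {x : Equiv.Perm (Fin n) × Equiv.Perm (Fin N) | ∃ e ∈ topCover [],
        cperm (w := w) (W := W) e = x} = ∅ by simp [topCover], closure_carrier]
      refine Set.Subset.antisymm (fun x hx => ?_) ?_
      · induction hx using Submonoid.closure_induction with
        | mem y hy => simp only [Set.mem_insert_iff, Set.mem_empty_iff_false, or_false] at hy; simp [hy]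
        | one => simp
        | mul p q _ _ hp hq =>
          rcases hp with rfl | rfl <;> rcases hq with rfl | rfl <;> simp [hzz]
      · rintro x (rfl | rfl)
        · exact one_mem _
        · exact Submonoid.subset_closure (Set.mem_insert _ _)
    rw [coverSet, hgrp]
  | l :: L, hc => by
    have hc' := hc
    simp only [chainOK, Bool.and_eq_true] at hc'
    obtain ⟨hcL, hlev⟩ := hc'
    have ih := coverSet_eq hz L hcL
    simp only [levelOK, genOK, treeOK, downOK, moveOK, Bool.and_eq_true, List.all_eq_true, Nat.blt_eq] at hlev
    obtain ⟨⟨⟨hgen, ⟨⟨⟨htv, htpos⟩, ht0⟩, htree⟩⟩, hdown⟩, hmove⟩ := hlev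
    set c := cperm (w := w) (W := W) (n := n) (N := N) with hcdef
    set K := coverGroup (n := n) (N := N) W w z (l :: L) with hK
    have hgK : ∀ e ∈ l.gens, c e ∈ K := fun e he =>
      Subgroup.subset_closure (Set.mem_insert_of_mem _ ⟨e, he, rfl⟩)
    have hzK : sheet (n := n) (N := N) (W := W) z ∈ K := Subgroup.subset_closure (Set.mem_insert _ _)
    have hgetm : ∀ {l' : List CoverElt} {i : ℕ}, i < l'.length → l'.getD i ((0, 0), (0, 0)) ∈ l' :=
      fun {l'} {i} h => by rw [List.getD_eq_getElem _ _ h]; exact List.getElem_mem _
    have hzv : validElt W N z = true := by simp only [sheetOK, Bool.and_eq_true] at hz; exact hz.1.1.2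
    have hn : n ≤ 2 ^ w := by simp only [sheetOK, Bool.and_eq_true, Nat.ble_eq] at hz; exact hz.1.1.1
    have htK : ∀ k, ∀ hk : k < l.trans.length, c (l.trans.getD k ((0, 0), (0, 0))) ∈ K := by
      intro k
      induction k using Nat.strong_induction_on with
      | _ k ihk =>
        intro hk
        rcases Nat.eq_zero_or_pos k with rfl | hpos
        · have := sameP_spec (fun e he => (List.mem_singleton.1 he) ▸ htv _ (hgetm hk)) (by simp) ht0
          simp only [List.map_cons, List.map_nil, List.prod_cons, List.prod_nil, mul_one] at this
          rw [hcdef, this]; exact one_mem _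
        · have h := allBelow_spec _ _ htree k hk
          simp only [Bool.or_eq_true, Nat.beq_eq, Bool.and_eq_true, Nat.blt_eq] at h
          obtain ⟨⟨hj, hi⟩, hs⟩ := h.resolve_left hpos.ne'
          have := sameP_spec (by
            intro e he
            simp only [List.mem_cons, List.not_mem_nil, or_false] at he
            rcases he with rfl | rfl
            exacts [(hgen _ (hgetm hi)).1, htv _ (hgetm (hj.trans hk))])
            (fun e he => (List.mem_singleton.1 he) ▸ htv _ (hgetm hk)) hs
          simp only [List.map_cons, List.map_nil, List.prod_cons, List.prod_nil, mul_one] at this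
          rw [hcdef, ← this]
          exact mul_mem (hgK _ (hgetm hi)) (ihk _ hj (hj.trans hk))
    have hLK : coverGroup (n := n) (N := N) W w z L ≤ K := by
      refine (Subgroup.closure_le _).2 (Set.insert_subset hzK ?_)
      rintro x ⟨e, he, rfl⟩
      obtain ⟨k, hk, rfl⟩ := List.mem_iff_getElem.1 he
      have h := allBelow_spec _ _ hdown k hk
      simp only [Bool.and_eq_true, List.all_eq_true, Nat.blt_eq] at h
      have hlet : ∀ a ∈ l.down.getD k [], validC n w N W (letterElt l.gens a) = true ∧
          c (letterElt l.gens a) ∈ K := by
        intro a ha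
        have hm := hgetm (h.1 a ha)
        have hv := (hgen _ hm).1
        unfold letterElt
        rcases a.2 with _ | _
        · exact ⟨hv, hgK _ hm⟩
        · simp only [validC, Bool.and_eq_true] at hv ⊢
          have inv : ∀ {w n : ℕ} {e : Elt}, validElt w n e = true →
              validElt w n (e.2, e.1) = true ∧ toPerm w n (e.2, e.1) = (toPerm w n e)⁻¹ := by
            intro w n e he
            have hv' : validElt w n (e.2, e.1) = true := by
              suffices ∀ k ≤ n, allBelow (fun i => Nat.blt (get w e.2 i) n && Nat.blt (get w e.1 i) n &&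
                  Nat.beq (get w e.2 (get w e.1 i)) i && Nat.beq (get w e.1 (get w e.2 i)) i) k = true from
                this n le_rfl
              intro k
              induction k with
              | zero => intro _; rfl
              | succ k ih =>
                intro hk
                show (allBelow _ k && _) = true
                rw [ih (by omega)]
                have := allBelow_spec _ _ he k (by omega)
                simp only [Bool.and_eq_true] at this ⊢
                tauto
            refine ⟨hv', rep_unique (rep_toPerm hv') fun i => ?_⟩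
            rw [inv_inv]
            exact ⟨(rep_toPerm he i).2, (rep_toPerm he i).1⟩
          refine ⟨⟨(inv hv.1).1, (inv hv.2).1⟩, ?_⟩
          convert K.inv_mem (hgK _ hm) using 1
          exact Prod.ext (inv hv.1).2 (inv hv.2).2
      have hev : validC n w N W ((topCover L)[k]) = true := by
        cases L with
        | nil => simp [topCover] at hk
        | cons m M =>
          simp only [chainOK, levelOK, genOK, Bool.and_eq_true, List.all_eq_true] at hcL
          exact (hcL.2.1.1.1 _ (List.getElem_mem hk)).1
      have := sameP_spec (fun e he => by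
          obtain ⟨a, ha, rfl⟩ := List.mem_map.1 he; exact (hlet a ha).1)
        (by rw [List.getD_eq_getElem _ _ hk]; simpa using hev) h.2
      simp only [List.map_cons, List.map_nil, List.prod_cons, List.prod_nil, mul_one] at this
      rw [List.getD_eq_getElem _ _ hk] at this
      show c _ ∈ K
      rw [hcdef, ← this]
      refine Subgroup.list_prod_mem _ fun x hx => ?_
      simp only [List.mem_map] at hx
      obtain ⟨_, ⟨a, ha, rfl⟩, rfl⟩ := hx
      exact (hlet a ha).2
    refine Set.Subset.antisymm ?_ ?_
    · rintro x ⟨t, ht, a, ha, rfl⟩
      obtain ⟨k, hk, rfl⟩ := List.mem_iff_getElem.1 ht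
      have h1 := htK k hk
      rw [List.getD_eq_getElem _ _ hk] at h1
      exact K.mul_mem h1 (hLK (by rw [ih] at ha; exact ha))
    have hcomm : ∀ x ∈ K, x * sheet (W := W) z = sheet (W := W) z * x := by
      intro x hx
      have : K ≤ Subgroup.centralizer {sheet (n := n) (N := N) (W := W) z} := by
        refine (Subgroup.closure_le _).2 (Set.insert_subset ?_ ?_)
        · intro y hy; rw [Set.mem_singleton_iff.1 hy]
        · rintro y ⟨e, he, rfl⟩ s hs
          rw [Set.mem_singleton_iff.1 hs]
          obtain ⟨hv, hs2⟩ := hgen e he
          simp only [validC, Bool.and_eq_true] at hv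
          refine Prod.ext (by simp [sheet]) ?_
          have := same_toPerm (w := W) (n := N) (as := [e.2, z]) (bs := [z, e.2]) (by simp [hv.2, hzv])
            (by simp [hv.2, hzv]) (by simpa using hs2)
          simp only [List.map_cons, List.map_nil, List.prod_cons, List.prod_nil, mul_one] at this
          exact this.symm
      exact (this hx _ rfl).symm
    suffices ∀ x ∈ (K : Set _), ∀ a ∈ coverSet (n := n) (N := N) W w z (l :: L),
        x * a ∈ coverSet (n := n) (N := N) W w z (l :: L) by
      intro x hx
      have h1 : (1 : Equiv.Perm (Fin n) × Equiv.Perm (Fin N)) ∈ coverSet (n := n) (N := N) W w z (l :: L) := by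
        refine ⟨_, hgetm htpos, 1, by rw [ih]; exact one_mem _, ?_⟩
        have := sameP_spec (fun e he => (List.mem_singleton.1 he) ▸ htv _ (hgetm htpos)) (by simp) ht0
        simpa using this
      simpa using this x hx 1 h1
    intro x hx
    rw [hK, coverGroup, closure_carrier] at hx
    induction hx using Submonoid.closure_induction with
    | mem y hy =>
      rintro a ⟨t, ht, b, hb, rfl⟩
      rw [ih] at hb
      rcases Set.mem_insert_iff.1 hy with rfl | ⟨e, he, rfl⟩
      · obtain ⟨k, hk, rfl⟩ := List.mem_iff_getElem.1 ht
        refine ⟨l.trans[k], ht, sheet (W := W) z * b, ?_, ?_⟩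
        · rw [ih]
          exact mul_mem (Subgroup.subset_closure (Set.mem_insert _ _)) hb
        · have h1 := htK k hk
          rw [List.getD_eq_getElem _ _ hk] at h1
          rw [← mul_assoc, ← mul_assoc, hcomm _ h1]
      · obtain ⟨i, hi, rfl⟩ := List.mem_iff_getElem.1 (show e ∈ l.gens from he)
        obtain ⟨k, hk, rfl⟩ := List.mem_iff_getElem.1 ht
        have h := allBelow_spec _ _ (allBelow_spec _ _ hmove i hi) k hk
        simp only [Bool.and_eq_true] at h
        set r := (l.moves.getD i []).getD k ([], false)
        have hval : ∀ e ∈ pathElts (l :: L) r.1, validC n w N W e = true :=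
          (prod_path (l :: L) r.1 hc h.1 1 (by simp [coverSet])).2
        have hsp := sameP_spec (by
            intro e he
            simp only [List.mem_cons, List.not_mem_nil, or_false] at he
            rcases he with rfl | rfl
            exacts [(hgen _ (hgetm hi)).1, htv _ (hgetm hk)])
          (fun e he => (List.mem_append.1 he).elim (hval e) (validC_sheetElt hz)) h.2
        simp only [List.map_cons, List.map_nil, List.prod_cons, List.prod_nil, mul_one, List.map_append,
          List.prod_append] at hsp
        rw [List.getD_eq_getElem _ _ hi, List.getD_eq_getElem _ _ hk] at hsp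
        set q := ((sheetElt n w z r.2).map (cperm (w := w) (W := W) (n := n) (N := N))).prod with hq
        have hqmem : q ∈ coverSet (n := n) (N := N) W w z [] := by
          rw [hq]; unfold sheetElt
          split
          · refine Or.inr ?_
            simp only [List.map_cons, List.map_nil, List.prod_cons, List.prod_nil, mul_one,
              Set.mem_singleton_iff]
            exact Prod.ext (toPerm_one hn) rfl
          · exact Or.inl (by simp)
        obtain ⟨t', ht', a', ha', e'⟩ := (prod_path (l :: L) r.1 hc h.1 q hqmem).1
        rw [ih] at ha'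
        refine ⟨t', ht', a' * b, by rw [ih]; exact mul_mem ha' hb, ?_⟩
        calc c t' * (a' * b) = c t' * a' * b := (mul_assoc _ _ _).symm
          _ = c l.gens[i] * c l.trans[k] * b := by rw [hcdef, e', hsp]
          _ = c l.gens[i] * (c l.trans[k] * b) := mul_assoc _ _ _
    | one => intro a ha; rwa [one_mul]
    | mul p q _ _ hp hq => intro a ha; rw [mul_assoc]; exact hp _ (hq _ ha)

/-- The word squares to the exchange. -/
def quadSq (n w N W : ℕ) (z : Elt) (S : List CoverElt) (u : List ℕ) : Bool :=
  u.all (fun k => Nat.blt k S.length) &&
    sameP n w N W ((u ++ u).map fun k => S.getD k ((0, 0), (0, 0))) [((idCode w n, idCode w n), z)]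

/-- **The central extension.** -/
theorem exists_double_cover {gens : List Elt} {derived : List (Elt × List ℕ)} {levels : List CLevel}
    (hcert : checkCert w n gens derived levels = true) (hz : sheetOK n w N W z = true)
    {L : List CoverLevel} (hc : chainOK n w N W z L = true)
    (htop : (topCover L).map Prod.fst = gens) (hord : coverOrder L = certOrder levels)
    {u : List ℕ} (hu : quadSq n w N W z (topCover L) u = true) (hperf : commutator (genGroup w n gens) = ⊤) :
    ∃ (X : Type) (_ : Group X) (σ : X →* genGroup w n gens), Function.Surjective σ ∧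
      σ.ker ≤ Subgroup.center X ∧ σ.ker ⊓ commutator X ≠ ⊥ := by
  let X := coverGroup (n := n) (N := N) W w z L
  have hn : n ≤ 2 ^ w := by simp only [sheetOK, Bool.and_eq_true, Nat.ble_eq] at hz; exact hz.1.1.1
  have hzv : validElt W N z = true := by simp only [sheetOK, Bool.and_eq_true] at hz; exact hz.1.1.2
  have hval : ∀ e ∈ topCover L, validC n w N W e = true ∧ same W N [e.2.1, z.1] [z.1, e.2.1] = true := by
    cases L with
    | nil => simp [topCover]
    | cons l L =>
      intro e he
      simp only [chainOK, levelOK, genOK, Bool.and_eq_true, List.all_eq_true] at hc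
      exact hc.2.1.1.1 e he
  have hfst : ∀ x ∈ X, x.1 ∈ genGroup w n gens := by
    intro x hx
    refine (Subgroup.closure_le ((genGroup w n gens).comap (MonoidHom.fst _ _))).2 ?_ hx
    refine Set.insert_subset (one_mem (genGroup w n gens)) ?_
    rintro y ⟨e, he, rfl⟩
    exact Subgroup.subset_closure (List.mem_map.2 ⟨e.1, htop ▸ List.mem_map_of_mem he, rfl⟩)
  let σ : X →* genGroup w n gens :=
    ((MonoidHom.fst _ _).comp X.subtype).codRestrict _ fun q => hfst q q.2
  have hsurj : Function.Surjective σ := by
    have hle : genGroup w n gens ≤ X.map (MonoidHom.fst _ _) := by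
      refine (Subgroup.closure_le _).2 fun x hx => ?_
      obtain ⟨g, hg, rfl⟩ := List.mem_map.1 hx
      rw [← htop] at hg
      obtain ⟨e, he, rfl⟩ := List.mem_map.1 hg
      exact ⟨_, Subgroup.subset_closure (Set.mem_insert_of_mem _ ⟨e, he, rfl⟩), rfl⟩
    intro y
    obtain ⟨q, hq, he⟩ := hle y.2
    exact ⟨⟨q, hq⟩, Subtype.ext he⟩
  set Z : Equiv.Perm (Fin n) × Equiv.Perm (Fin N) := sheet (W := W) z with hZ
  let ZX : X := ⟨Z, Subgroup.subset_closure (Set.mem_insert _ _)⟩
  have hZker : ZX ∈ σ.ker := Subtype.ext rfl
  have hZne : ZX ≠ 1 := by
    intro e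
    have e2 : toPerm W N z = 1 := congrArg (fun q : X => q.1.2) e
    simp only [sheetOK, Bool.and_eq_true, Bool.not_eq_true'] at hz
    have := (same_iff (w := W) (A := [(z.1, toPerm W N z)]) (B := [])
      (by simpa using fwd_rep (rep_toPerm hzv)) (by simp)).2 (by simp [e2])
    simp [hz.1.2] at this
  have hcard : Nat.card σ.ker ≤ 2 := by
    have h1 : Nat.card X ≤ 2 * certOrder levels := by
      rw [← hord]
      refine le_trans (le_of_eq ?_) (ncard_coverSet (n := n) (N := N) (w := w) (W := W) (z := z) L)
      rw [coverSet_eq hz L hc]
      exact Nat.card_coe_set_eq _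
    have h2 : Nat.card σ.ker * certOrder levels = Nat.card X := by
      rw [← σ.ker.card_mul_index, Subgroup.index_ker, MonoidHom.range_eq_top.2 hsurj, Subgroup.card_top,
        cert_card hcert]
    have h3 : 0 < certOrder levels := by rw [← cert_card hcert]; exact Nat.card_pos
    exact Nat.le_of_mul_le_mul_right (h2 ▸ h1) h3
  have hker : ∀ q ∈ σ.ker, q = 1 ∨ q = ZX := by
    intro q hq
    by_contra hne
    rw [not_or] at hne
    have h3 : ({1, ZX, q} : Set X).ncard = 3 := Set.ncard_eq_three.2 ⟨1, ZX, q, hZne.symm, Ne.symm hne.1,
      Ne.symm hne.2, rfl⟩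
    have : ({1, ZX, q} : Set X) ⊆ σ.ker := by
      rintro x (rfl | rfl | rfl)
      exacts [one_mem _, hZker, hq]
    have := Set.ncard_le_ncard this
    rw [h3, ← Nat.card_coe_set_eq] at this
    exact absurd (this.trans hcard) (by norm_num)
  have hcentZ : ∀ x ∈ X, x * Z = Z * x := by
    intro x hx
    have : X ≤ Subgroup.centralizer {Z} := by
      refine (Subgroup.closure_le _).2 (Set.insert_subset ?_ ?_)
      · intro y hy; rw [Set.mem_singleton_iff.1 hy]
      · rintro y ⟨e, he, rfl⟩ s hs
        rw [Set.mem_singleton_iff.1 hs]
        obtain ⟨hv, hs2⟩ := hval e he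
        simp only [validC, Bool.and_eq_true] at hv
        refine Prod.ext (by simp [hZ, sheet]) ?_
        have := same_toPerm (w := W) (n := N) (as := [e.2, z]) (bs := [z, e.2]) (by simp [hv.2, hzv])
          (by simp [hv.2, hzv]) (by simpa using hs2)
        simp only [List.map_cons, List.map_nil, List.prod_cons, List.prod_nil, mul_one] at this
        exact this.symm
    exact (this hx _ rfl).symm
  have hcent : σ.ker ≤ Subgroup.center X := by
    intro q hq
    rw [Subgroup.mem_center_iff]
    intro p
    rcases hker q hq with rfl | rfl
    · rw [mul_one, one_mul]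
    · exact Subtype.ext (hcentZ p p.2)
  refine ⟨X, inferInstance, σ, hsurj, hcent, ?_⟩
  simp only [quadSq, Bool.and_eq_true, List.all_eq_true, Nat.blt_eq] at hu
  obtain ⟨hlt, hsq⟩ := hu
  have hgm : ∀ k ∈ u, (topCover L).getD k ((0, 0), (0, 0)) ∈ topCover L := fun k hk => by
    rw [List.getD_eq_getElem _ _ (hlt k hk)]; exact List.getElem_mem _
  set c := cperm (w := w) (W := W) (n := n) (N := N) with hcdef
  let S : X := ⟨((u.map fun k => (topCover L).getD k ((0, 0), (0, 0))).map c).prod,
    Subgroup.list_prod_mem _ fun x hx => by
      simp only [List.mem_map] at hx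
      obtain ⟨_, ⟨k, hk, rfl⟩, rfl⟩ := hx
      exact Subgroup.subset_closure (Set.mem_insert_of_mem _ ⟨_, hgm k hk, rfl⟩)⟩
  have hSS : S * S = ZX := by
    refine Subtype.ext ?_
    have hvz : validC n w N W ((idCode w n, idCode w n), z) = true :=
      validC_sheetElt hz (b := true) (by simp [sheetElt])
    have := sameP_spec (fun e he => by
      obtain ⟨k, hk, rfl⟩ := List.mem_map.1 he
      exact (hval _ (hgm k ((List.mem_append.1 hk).elim id id))).1) (by simpa using hvz) hsq
    simp only [List.map_append, List.prod_append, List.map_cons, List.map_nil, List.prod_cons, List.prod_nil,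
      mul_one] at this
    show ((u.map fun k => (topCover L).getD k ((0, 0), (0, 0))).map c).prod *
      ((u.map fun k => (topCover L).getD k ((0, 0), (0, 0))).map c).prod = Z
    rw [hcdef, this]
    exact Prod.ext (toPerm_one hn) rfl
  have hmap : (commutator X).map σ = ⊤ := by
    rw [commutator_def, Subgroup.map_commutator, Subgroup.map_top_of_surjective σ hsurj, ← commutator_def, hperf]
  obtain ⟨d, hd, hdS⟩ : σ S ∈ (commutator X).map σ := hmap.symm ▸ Subgroup.mem_top _
  have hk : d⁻¹ * S ∈ σ.ker := by rw [MonoidHom.mem_ker, map_mul, map_inv, hdS, inv_mul_cancel]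
  have hkk : (d⁻¹ * S) * (d⁻¹ * S) = 1 := by
    rcases hker _ hk with h | h <;> rw [h]
    · simp
    · refine Subtype.ext (Prod.ext (mul_one _) ?_)
      have := same_toPerm (w := W) (n := N) (as := [z, z]) (bs := []) (by simp [hzv]) (by simp)
        (by simp only [sheetOK, Bool.and_eq_true] at hz; simpa using hz.2)
      simpa [ZX, hZ, sheet] using this
  have hdd : S * S = d * d := by
    have hcomm := Subgroup.mem_center_iff.1 (hcent hk) d
    calc S * S = (d * (d⁻¹ * S)) * (d * (d⁻¹ * S)) := by group
      _ = d * d * ((d⁻¹ * S) * (d⁻¹ * S)) := by rw [← mul_assoc (d * (d⁻¹ * S)), mul_assoc d _ d, ← hcomm]; group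
      _ = d * d := by rw [hkk, mul_one]
  intro hbot
  have hmem : ZX ∈ σ.ker ⊓ commutator X := ⟨hZker, by rw [← hSS, hdd]; exact mul_mem hd hd⟩
  rw [hbot, Subgroup.mem_bot] at hmem
  exact hZne hmem

end Proof

end Cfsg.Agent.SporPerm
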