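import Cfsg.Agent.Lib.SporPerm.HSCoverData

/-! Kernel check of the top level of the double cover of HS. -/

set_option autoImplicit false
set_option maxRecDepth 20000

namespace Cfsg.Agent.SporPerm

open Cfsg.Agent.PermCert

theorem hs2_level0 : levelOK 100 7 704 10 hs2Z hs2L0 [hs2L1, hs2L2, hs2L3, hs2L4, hs2L5] = true := by decide +kernel

end Cfsg.Agent.SporPerm
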